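import Groth.Agent.Lib.RHomO.Derived
import Groth.Agent.Lib.SchColim29.RHomLocal
import Groth.Agent.Lib.Perfect.PCCoh
import Groth.Agent.Lib.Cyc.Dev.SchemeEquiv
import Groth.Agent.Lib.DerivedOX.DualHomExists
import Groth.Agent.Lib.Snapper.Twist
import Groth.Agent.Lib.SchColim29.CohPush

/-!
# Quasi-coherence, coherence, and the comparison with the right adjoint of `Ri_*`
-/

set_option autoImplicit false
set_option linter.style.haveILetI false
set_option linter.unusedSectionVars false

universe u

open CategoryTheory Limits AlgebraicGeometry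

attribute [local instance] HasDerivedCategory.standard

namespace Groth.Agent.Lib.RHomO.Main

open Groth.Agent.Lib Groth.Agent.Lib.DerivedOX Groth.Agent.Lib.RHomO.Derived

variable {Z X : Scheme.{u}} (i : Z ⟶ X) [IsClosedImmersion i]

theorem preservesFiniteLimits_push : PreservesFiniteLimits (Scheme.Modules.pushforward i) := by
  haveI : (Scheme.Modules.pushforward i).IsRightAdjoint :=
    (Scheme.Modules.pullbackPushforwardAdjunction i).isRightAdjoint
  haveI : PreservesLimitsOfSize.{0, 0} (Scheme.Modules.pushforward i) := inferInstance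
  exact PreservesLimitsOfSize.preservesFiniteLimits _

theorem preservesFiniteColimits_push : PreservesFiniteColimits (Scheme.Modules.pushforward i) := by
  haveI := PushClosed.Basic.pushforward_isLeftAdjoint i
  haveI : PreservesColimitsOfSize.{0, 0} (Scheme.Modules.pushforward i) := inferInstance
  exact PreservesColimitsOfSize.preservesFiniteColimits _

variable [PreservesFiniteLimits (Scheme.Modules.pushforward i)]
  [PreservesFiniteColimits (Scheme.Modules.pushforward i)]

/-- The cohomology of `i_*` on `D(O_Z)`. -/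
theorem nonempty_HD_pushD (K : DCoh.D Z) (n : ℤ) :
    Nonempty (DCoh.HD ((Dual3.pushD i).obj K) n ≅
      (Scheme.Modules.pushforward i).obj (DCoh.HD K n)) := by
  let P := DerivedCategory.Q.objPreimage K
  let e : DerivedCategory.Q.obj P ≅ K := DerivedCategory.Q.objObjPreimageIso K
  exact ⟨(DerivedCategory.homologyFunctor X.Modules n).mapIso ((Dual3.pushD i).mapIso e.symm ≪≫
      (Scheme.Modules.pushforward i).mapDerivedCategoryFactors.app P) ≪≫
    (DerivedCategory.homologyFunctorFactors X.Modules n).app _ ≪≫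
    (P.sc n).mapHomologyIso (Scheme.Modules.pushforward i) ≪≫
    (Scheme.Modules.pushforward i).mapIso
      (((DerivedCategory.homologyFunctorFactors Z.Modules n).app P).symm ≪≫
        (DerivedCategory.homologyFunctor Z.Modules n).mapIso e)⟩

/-- `i_*` reflects quasi-coherence. -/
theorem isQuasicoherent_of_push {N : Z.Modules}
    (h : ((Scheme.Modules.pushforward i).obj N).IsQuasicoherent) : N.IsQuasicoherent := by
  haveI := h
  haveI := Cyc.Dev.SchemeCase.isIso_counit i N
  exact (WayOut.Scheme.qc Z).prop_of_iso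
    (asIso ((Scheme.Modules.pullbackPushforwardAdjunction i).counit.app N))
    (QCoh.Pullback.isQCoh_pullback i _)

/-- `i_*` on derived categories reflects quasi-coherence of cohomology. -/
theorem isQCohD_of_pushD {K : DCoh.D Z} (h : DCoh.IsQCohD ((Dual3.pushD i).obj K)) :
    DCoh.IsQCohD K := fun n => by
  obtain ⟨e⟩ := nonempty_HD_pushD i K n
  exact isQuasicoherent_of_push i ((WayOut.Scheme.qc X).prop_of_iso e (h n))

/-- Pseudo-coherence of `i_*O_Z` over a locally Noetherian base. -/
theorem isPseudoCoherentD_push_O [IsLocallyNoetherian X] (m : ℤ) :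
    DCoh.IsPseudoCoherentD m
      (DCoh.inD X ((Scheme.Modules.pushforward i).obj (Coh.structureModule Z))) := by
  haveI : IsLocallyNoetherian Z := LocallyOfFiniteType.isLocallyNoetherian i
  let M := (Scheme.Modules.pushforward i).obj (Coh.structureModule Z)
  have hM : Coh.IsCoh M := Cyc.Dev.SchemeEquiv.isCoh_push i (Snapper.Twist.isCoh_structureModule Z)
  haveI : (DCoh.inD X M).IsLE 0 := inferInstance
  haveI : (DCoh.inD X M).IsGE 0 := inferInstance
  refine (Perfect.PseudoCoh.iff_forall m _).2 fun x =>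
    Perfect.PCCoh.pcAt_of_coh m (1 - m).toNat _ 0 (by omega) inferInstance (fun n hn hn' => ?_) x
  by_cases h0 : n = 0
  · subst h0
    exact CohBasics.Closure.isCoh_of_iso
      ((DerivedCategory.singleFunctorCompHomologyFunctorIso _ 0).app M).symm hM
  · exact SchColim29.CohPush.isCoh_of_isZero
      (DerivedCategory.isZero_of_isGE (DCoh.inD X M) 0 n (by omega))

variable [Dual3.HasHomO i]

/-- `R Hom(O_Z, -)` preserves quasi-coherent cohomology on bounded below objects. -/
theorem isQCohD_RH (hpc : ∀ m : ℤ, DCoh.IsPseudoCoherentD m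
      (DCoh.inD X ((Scheme.Modules.pushforward i).obj (Coh.structureModule Z))))
    (K : DCoh.D X) (hK : DCoh.IsQCohD K) (c : ℤ) [K.IsGE c] : DCoh.IsQCohD ((RH i).obj K) := by
  let E := E₀ i
  haveI := LeftExists.hasLTensorCx E
  haveI := DualHomExists.hasRSheafHom E
  obtain ⟨θ⟩ := nonempty_RHom_iso i E
    ((DerivedCategory.singleFunctorIsoCompQ X.Modules 0).app _).symm
  refine isQCohD_of_pushD i fun n => (WayOut.Scheme.qc X).prop_of_iso
    ((DerivedCategory.homologyFunctor X.Modules n).mapIso (θ.app K).symm) ?_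
  exact SchColim29.RHomLocal.isQCoh_HD E K hK c (c - n - 1)
    ((Perfect.PseudoCoh.iff_forall _ _).2 fun x => ((Perfect.PseudoCoh.iff_forall _ _).1 (hpc _) x).of_iso
      ((DerivedCategory.singleFunctorIsoCompQ X.Modules 0).app _)) n (by omega)

/-- `R Hom(O_Z, -)` preserves coherent cohomology on bounded below objects. -/
theorem isCohD_RH [IsLocallyNoetherian X]
    (K : DCoh.D X) (hK : DCoh.IsCohD K) (c : ℤ) [K.IsGE c] : DCoh.IsCohD ((RH i).obj K) := by
  let E := E₀ i
  haveI := LeftExists.hasLTensorCx E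
  haveI := DualHomExists.hasRSheafHom E
  obtain ⟨θ⟩ := nonempty_RHom_iso i E
    ((DerivedCategory.singleFunctorIsoCompQ X.Modules 0).app _).symm
  intro n
  obtain ⟨e⟩ := nonempty_HD_pushD i ((RH i).obj K) n
  refine Cyc.Dev.SchemeEquiv.isCoh_of_push i
    (isQCohD_RH i (isPseudoCoherentD_push_O i) K (fun k => (hK k).1) c n) ?_
  exact CohBasics.Closure.isCoh_of_iso
    ((DerivedCategory.homologyFunctor X.Modules n).mapIso (θ.app K).symm ≪≫ e)
    (SchColim29.RHomLocal.isCoh_HD E K hK c (c - n - 1)
      ((Perfect.PseudoCoh.iff_forall _ _).2 fun x =>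
        ((Perfect.PseudoCoh.iff_forall _ _).1 (isPseudoCoherentD_push_O i _) x).of_iso
          ((DerivedCategory.singleFunctorIsoCompQ X.Modules 0).app _)) n (by omega))

/-- The right adjoint of `Ri_*` on bounded below objects of `D_QCoh`. -/
theorem nonempty_adjoint_iso [EnoughInjectives X.Modules] [DCoh.HasRpush i]
    (hpc : ∀ m : ℤ, DCoh.IsPseudoCoherentD m
      (DCoh.inD X ((Scheme.Modules.pushforward i).obj (Coh.structureModule Z))))
    (hf : DCoh.RpushPreservesQCoh i) {a : DCoh.DQCoh X ⥤ DCoh.DQCoh Z}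
    (adj : DCoh.RpushQ i hf ⊣ a) :
    Nonempty (Dual3.bddι X ⋙ a ⋙ ObjectProperty.ι _ ≅
      Dual3.bddToPlus X ⋙ Dual3.RHomOPlus i ⋙
        (DerivedCategory.Plus.ι : DerivedCategory.Plus Z.Modules ⥤ DCoh.D Z)) := by
  obtain ⟨ε⟩ := Derived.nonempty_Rpush_iso i
  obtain ⟨θ⟩ := nonempty_plus_iso i
  let H := adjRH i
  let φ : ∀ K : (Dual3.IsBddBelowQ X).FullSubcategory, (a.obj K.obj).obj ⟶ (RH i).obj K.obj.obj :=
    fun K => H.homEquiv _ _ (ε.inv.app _ ≫ (adj.counit.app K.obj).hom)
  let e : Dual3.bddι X ⋙ a ⋙ ObjectProperty.ι _ ≅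
      Dual3.bddι X ⋙ ObjectProperty.ι _ ⋙ RH i := by
    refine NatIso.ofComponents (fun K => @asIso _ _ _ _ (φ K) ?_) (fun {K L} v => ?_)
    · obtain ⟨c, hc⟩ := K.property
      haveI := hc
      let T : DCoh.DQCoh Z := ⟨_, isQCohD_RH i hpc K.obj.obj K.obj.property c⟩
      let ψ : a.obj K.obj ⟶ T := ObjectProperty.homMk (φ K)
      suffices IsIso ψ from inferInstanceAs (IsIso ((ObjectProperty.ι (DCoh.IsQCohD (X := Z))).map ψ))
      refine isIso_of_yoneda_map_bijective _ fun M => ?_
      let e₁ : (M ⟶ a.obj K.obj) ≃ ((DCoh.Rpush i).obj M.obj ⟶ K.obj.obj) :=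
        (adj.homEquiv M K.obj).symm.trans (ObjectProperty.fullyFaithfulι _).homEquiv
      let e₂ : ((DCoh.Rpush i).obj M.obj ⟶ K.obj.obj) ≃ (M ⟶ T) :=
        ((Iso.homCongr (ε.app M.obj) (Iso.refl _)).trans (H.homEquiv _ _)).trans
          ((ObjectProperty.fullyFaithfulι (DCoh.IsQCohD (X := Z))).homEquiv (X := M) (Y := T)).symm
      have he : (fun g : M ⟶ a.obj K.obj => g ≫ ψ) = e₁.trans e₂ := funext fun g => by
        apply ObjectProperty.hom_ext
        change g.hom ≫ H.homEquiv _ _ _ = H.homEquiv _ _ _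
        rw [← H.homEquiv_naturality_left]
        refine congrArg _ ?_
        change _ = ε.inv.app M.obj ≫ ((adj.homEquiv M K.obj).symm g).hom ≫ 𝟙 _
        rw [Category.comp_id, adj.homEquiv_counit]
        have hn := ε.inv.naturality g.hom
        dsimp at hn ⊢
        rw [reassoc_of% hn]
      rw [he]
      exact (e₁.trans e₂).bijective
    · change (a.map v.hom).hom ≫ φ L = φ K ≫ (RH i).map v.hom.hom
      rw [← H.homEquiv_naturality_left, ← H.homEquiv_naturality_right]
      refine congrArg _ ?_
      have hn := ε.inv.naturality (a.map v.hom).hom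
      dsimp at hn ⊢
      rw [reassoc_of% hn, Category.assoc]
      exact congrArg (ε.inv.app _ ≫ ·) (congrArg (fun t => t.hom) (adj.counit.naturality v.hom))
  exact ⟨e ≪≫ (Functor.isoWhiskerLeft (Dual3.bddToPlus X) θ).symm⟩

end Groth.Agent.Lib.RHomO.Main
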