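import Groth.Agent.Lib.RHomO.Module
import Groth.Agent.Lib.DerivedOX.PullTranspose
import Groth.Agent.Lib.DerivedOX.PullPushAdj
import Groth.Agent.Lib.DerivedOX.DualCompare
import Groth.Agent.Lib.RightAdjTensor.Trace
import Groth.Agent.Lib.DerCat.DerAdj
import Groth.Agent.Lib.DerCat.RFPlus
import Groth.Agent.Lib.DerivedOX.RestrictRpush
import Groth.Prelude.Def_Dual3

/-!
# `i_* R Hom(O_Z, -) ≅ RHom(i_*O_Z, -)` for a closed immersion
-/

set_option autoImplicit false
set_option linter.style.haveILetI false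
set_option linter.unusedSectionVars false

universe u

open CategoryTheory Limits AlgebraicGeometry HomologicalComplex

attribute [local instance] HasDerivedCategory.standard

namespace Groth.Agent.Lib.RHomO.Derived

open Groth.Agent.Lib Groth.Agent.Lib.DerivedOX Groth.Agent.Lib.DerCat

variable {Z X : Scheme.{u}} (i : Z ⟶ X) [IsClosedImmersion i]

/-- `i_*O_Z` in degree zero. -/
noncomputable abbrev E₀ : CochainComplex X.Modules ℤ :=
  (single X.Modules (ComplexShape.up ℤ) 0).obj
    ((Scheme.Modules.pushforward i).obj (Coh.structureModule Z))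

variable [PreservesFiniteLimits (Scheme.Modules.pushforward i)]
  [PreservesFiniteColimits (Scheme.Modules.pushforward i)]

/-- The comparison of `Li^*` followed by `i_*` with the termwise tensor product. -/
noncomputable def cmpT [DCoh.HasLpull i] :
    DerivedCategory.Q ⋙ DCoh.Lpull i ⋙ Dual3.pushD i ⟶ DCoh.tensorCxQ (E₀ i) :=
  (Functor.associator _ _ _).inv ≫
    Functor.whiskerRight (PullTranspose.counitCx i) (Dual3.pushD i) ≫
    (Functor.associator _ _ _).hom ≫
    Functor.whiskerLeft (PullTranspose.pullC i)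
      (Scheme.Modules.pushforward i).mapDerivedCategoryFactors.hom ≫
    (Functor.associator _ _ _).inv ≫
    Functor.whiskerRight
      ((Functor.mapHomologicalComplexCompIso (Module.projIso i).symm (ComplexShape.up ℤ)).hom ≫
        (Module.single₂Iso _).hom) DerivedCategory.Q

theorem isIso_cmpT [DCoh.HasLpull i] {P : CochainComplex X.Modules ℤ} (hP : DCoh.IsKFlat P) :
    IsIso ((cmpT i).app P) := by
  haveI := PullTranspose.isIso_counitCx i hP
  simp only [cmpT, NatTrans.comp_app, Functor.whiskerRight_app, Functor.whiskerLeft_app,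
    Functor.associator_hom_app, Functor.associator_inv_app]
  infer_instance

/-- The projection formula `i_* Li^* ≅ - ⊗^L E` for every representative `E` of `i_*O_Z`. -/
theorem nonempty_projIso [DCoh.HasLpull i] (E : CochainComplex X.Modules ℤ) [DCoh.HasLTensorCx E]
    (hE : DCoh.toD X E ≅ DCoh.inD X ((Scheme.Modules.pushforward i).obj (Coh.structureModule Z))) :
    Nonempty (DCoh.Lpull i ⋙ Dual3.pushD i ≅ DCoh.LTensorCx E) := by
  haveI := LeftExists.hasLTensorCx (E₀ i)
  haveI : (DCoh.Lpull i ⋙ Dual3.pushD i).IsLeftDerivedFunctor (cmpT i)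
      (HomologicalComplex.quasiIso X.Modules (.up ℤ)) :=
    LeftDerived.isLeftDerivedFunctor_of_isIso (LeftExists.isAdapted_tensorCxQ (E₀ i))
      DerivedCategory.Q _ _ fun T => isIso_cmpT i (KFlat.isKFlat_res T)
  let θ₀ : DCoh.Lpull i ⋙ Dual3.pushD i ≅ DCoh.LTensorCx (E₀ i) :=
    Functor.leftDerivedUnique (LF := DCoh.Lpull i ⋙ Dual3.pushD i) (LF' := DCoh.LTensorCx (E₀ i))
      (α := cmpT i)
      (α'₂ := (DCoh.tensorCxQ (E₀ i)).totalLeftDerivedCounit DerivedCategory.Q
        (HomologicalComplex.quasiIso X.Modules (.up ℤ)))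
      (W := HomologicalComplex.quasiIso X.Modules (.up ℤ))
  obtain ⟨J, j, hJ, hj⟩ := DerCat.KInjExists.hasKInjRes (E₀ i)
  haveI := hJ
  haveI := hj
  haveI := LeftExists.hasLTensorCx J
  haveI : IsIso (DerivedCategory.Q.map j) := (DerivedCategory.isIso_Q_map_iff_quasiIso _ _).2 hj
  obtain ⟨t, ht⟩ := (DualCompare.Q_map_bijective_aux (T := E) (J := J)).1
    (hE.hom ≫ (DerivedCategory.singleFunctorIsoCompQ X.Modules 0).hom.app _ ≫
      DerivedCategory.Q.map j)
  haveI : QuasiIso t := (DerivedCategory.isIso_Q_map_iff_quasiIso _ _).1 (by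
    rw [ht]
    exact IsIso.comp_isIso' inferInstance (IsIso.comp_isIso' inferInstance ‹IsIso (DerivedCategory.Q.map j)›))
  obtain ⟨θ₁⟩ := RightAdjTensor.Trace.nonempty_LTensorCx_congr t
  obtain ⟨θ₂⟩ := RightAdjTensor.Trace.nonempty_LTensorCx_congr j
  exact ⟨θ₀ ≪≫ θ₂ ≪≫ θ₁.symm⟩

/-- `Ri_* ≅ i_*` for a closed immersion. -/
theorem nonempty_Rpush_iso [DCoh.HasRpush i] : Nonempty (DCoh.Rpush i ≅ Dual3.pushD i) := by
  haveI : ∀ d, IsIso ((RightDerived.resAdj X.Modules).counit.app d) := fun d =>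
    RestrictRpush.isIso_resAdj_counit d
  haveI : ∀ d, IsIso ((RightDerived.resAdj Z.Modules).counit.app d) := fun d =>
    RestrictRpush.isIso_resAdj_counit d
  let τ : RightDerived.resFunctor Z.Modules ⋙ DCoh.pushKh i ⟶ Dual3.pushD i :=
    RightDerived.descRes (DCoh.pushKh i) (Dual3.pushD i)
      (Scheme.Modules.pushforward i).mapDerivedCategoryFactorsh.inv
  haveI : ∀ d, IsIso (τ.app d) := fun d =>
    IsIso.comp_isIso' inferInstance inferInstance
  haveI : IsIso τ := NatIso.isIso_of_isIso_app τ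
  exact ⟨(RightDerived.totalRightDerivedIso (DCoh.pushKh i)).symm ≪≫ asIso τ⟩

variable [Dual3.HasHomO i]

/-- `R Hom(O_Z, -)` on all of `D(O_X)`, by K-injective resolutions. -/
noncomputable abbrev RH : DCoh.D X ⥤ DCoh.D Z :=
  RightDerived.resFunctor X.Modules ⋙ (Dual3.homO i).mapHomotopyCategory (ComplexShape.up ℤ) ⋙
    DerivedCategory.Qh

/-- `i_* ⊣ R Hom(O_Z, -)`. -/
noncomputable def adjRH : Dual3.pushD i ⊣ RH i :=
  DerCat.DerAdj.derivedAdj (Dual3.homOAdj i)

/-- `i_* R Hom(O_Z, -) ≅ RHom(E, -)` on `D(O_X)`. -/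
theorem nonempty_RHom_iso (E : CochainComplex X.Modules ℤ) [DCoh.HasLTensorCx E]
    [DCoh.HasRSheafHom E]
    (hE : DCoh.toD X E ≅ DCoh.inD X ((Scheme.Modules.pushforward i).obj (Coh.structureModule Z))) :
    Nonempty (RH i ⋙ Dual3.pushD i ≅ DCoh.RSheafHom E) := by
  haveI := LeftExists.hasLpull i
  haveI := Exists.hasRpush i
  obtain ⟨π⟩ := nonempty_projIso i E hE
  let ε : DCoh.Rpush i ≅ Dual3.pushD i := (nonempty_Rpush_iso i).some
  let adjP : DCoh.Lpull i ⊣ Dual3.pushD i :=
    (PullPushAdj.derivedAdjunction i).ofNatIsoRight ε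
  exact ⟨(adjP.comp (adjRH i)).rightAdjointUniq
    ((DCoh.RSheafHomAdj E).ofNatIsoLeft π.symm)⟩

section Plus

variable [EnoughInjectives X.Modules]

/-- Mathlib's `R Hom(O_Z, -)` on `D⁺` agrees with the K-injective one. -/
theorem nonempty_plus_iso :
    Nonempty (Dual3.RHomOPlus i ⋙ (DerivedCategory.Plus.ι : DerivedCategory.Plus Z.Modules ⥤ DCoh.D Z) ≅
      (DerivedCategory.Plus.ι : DerivedCategory.Plus X.Modules ⥤ DCoh.D X) ⋙ RH i) := by
  let G := Dual3.homO i
  let J := (InjectiveObject.ι X.Modules).mapHomotopyCategoryPlus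
  let P := G.mapHomotopyCategory (ComplexShape.up ℤ) ⋙ DerivedCategory.Qh (C := Z.Modules)
  let τ : RFPlus.RFinj G ⟶ RFPlus.E ⋙ DerivedCategory.Plus.ι ⋙ RH i :=
    { app := fun T => (RightDerived.derivedUnit P).app (J.obj T).obj
      naturality := fun T T' g => (RightDerived.derivedUnit P).naturality ((J.map g).hom) }
  haveI : ∀ T, IsIso (τ.app T) := fun T => by
    obtain ⟨K, rfl⟩ := HomotopyCategory.Plus.quotient_obj_surjective T
    haveI : CochainComplex.IsKInjective
        (((InjectiveObject.ι X.Modules).mapHomologicalComplex (.up ℤ)).obj K.obj) := inferInstance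
    haveI := RightDerived.isIso_unit_of_isKInjective
      (((InjectiveObject.ι X.Modules).mapHomologicalComplex (.up ℤ)).obj K.obj)
    change IsIso ((RightDerived.derivedUnit P).app _)
    rw [RightDerived.derivedUnit_app]
    haveI hu : IsIso ((RightDerived.resAdj X.Modules).unit.app (J.obj ((HomotopyCategory.Plus.quotient (InjectiveObject X.Modules)).obj K)).obj) :=
      RightDerived.isIso_unit_of_isKInjective (((InjectiveObject.ι X.Modules).mapHomologicalComplex (.up ℤ)).obj K.obj)
    exact CategoryTheory.Functor.map_isIso P _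
  haveI : IsIso τ := NatIso.isIso_of_isIso_app τ
  haveI : (RFPlus.E (C := X.Modules)).Faithful := ⟨fun h => (RFPlus.E_map_bijective _ _).1 h⟩
  haveI : (RFPlus.E (C := X.Modules)).Full := ⟨(RFPlus.E_map_bijective _ _).2⟩
  haveI : (RFPlus.E (C := X.Modules)).IsEquivalence := {}
  exact ⟨(((Functor.whiskeringLeft _ _ (DCoh.D Z)).obj (RFPlus.E (C := X.Modules))).preimageIso
    ((RFPlus.compIso G).symm ≪≫ asIso τ))⟩

end Plus

end Groth.Agent.Lib.RHomO.Derived
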