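import Groth.Agent.Lib.RHomO.Main
import Groth.Agent.Lib.ProjCoh.Coherent
import Groth.Agent.Lib.ProjKoszul.Surj
import Groth.Agent.Lib.ClSub.Quot

/-!
# `Hom(O_D, -)` for an effective Cartier divisor, at the level of modules

For an invertible ideal module `I` with inverse `L` there is a natural complex
`0 → i_* Hom(O_D, N) → N → N ⊗ L → 0`, exact for injective `N`.
-/

set_option autoImplicit false
set_option linter.style.haveILetI false
set_option linter.unusedSectionVars false

universe u

open CategoryTheory Limits AlgebraicGeometry HomologicalComplex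

noncomputable section

namespace Groth.Agent.Lib.RHomO.Divisor

open Groth.Agent.Lib Groth.Agent.Lib.DerivedOX
open Groth.Agent.Lib.TensorMod.Basic
open Groth.Agent.Lib.TensorMod.Pullback (pb pf unitSec)
open Groth.Agent.Lib.Modules.TensorSec (tens app_tens tmap_tens)

variable {X : Scheme.{u}} (I : X.IdealSheafData)

/-- Multiplication `M ⊗ I → M`. -/
def a : tensorBy (_root_.ClSub.idealMod I) ⟶ 𝟭 X.Modules where
  app M := tmap (𝟙 M) (_root_.ClSub.idealModι I) ≫ (rightUnit M).hom
  naturality {M N} f := by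
    change tmap f (𝟙 _) ≫ tmap (𝟙 N) _ ≫ (rightUnit N).hom =
      (tmap (𝟙 M) _ ≫ (rightUnit M).hom) ≫ f
    rw [Category.assoc, ← rightUnit_natural, ← tmap_comp_assoc, ← tmap_comp_assoc]
    simp

/-- Reduction `M → M ⊗ O_D`. -/
def ψ (M : X.Modules) : M ⟶ CohB1.tensorMod M (_root_.ClSub.quotMod I) :=
  (rightUnit M).inv ≫ tmap (𝟙 M) (_root_.ClSub.toSubscheme I)

/-- `M ⊗ O_D ≅ i_* i^* M`. -/
def p (M : X.Modules) : CohB1.tensorMod M (_root_.ClSub.quotMod I) ≅
    (Scheme.Modules.pushforward I.subschemeι).obj ((Scheme.Modules.pullback I.subschemeι).obj M) :=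
  (Module.projIso I.subschemeι).app M

theorem ψ_p (M : X.Modules) : ψ I M ≫ (p I M).hom =
    (Scheme.Modules.pullbackPushforwardAdjunction I.subschemeι).unit.app M := by
  let i := I.subschemeι
  let N := (Scheme.Modules.pullback i).obj M
  refine Scheme.Modules.hom_ext _ _ fun U => ConcreteCategory.ext_apply fun m => ?_
  change ((Scheme.Modules.pushforward i).map (rightUnit N).hom).app U
    ((Modules.ProjFormula.theta i M (Coh.structureModule I.subscheme)).app U
      ((tmap (𝟙 M) (_root_.ClSub.toSubscheme I)).app U ((rightUnit M).inv.app U m))) = _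
  rw [ProjKoszul.Surj.rightUnit_inv_app, tmap_tens, Modules.ProjFormula.theta_tens]
  change (rightUnit N).hom.app (i ⁻¹ᵁ U) (tens (U := i ⁻¹ᵁ U) (unitSec i M m)
    ((i.app U).hom (1 : Γ(X, U)) : Γ(I.subscheme, i ⁻¹ᵁ U))) = _
  rw [app_tens, ProjKoszul.Surj.pairM_rightUnit_hom, map_one, one_smul]
  rfl

variable {L : X.Modules} (e : CohB1.tensorMod L (_root_.ClSub.idealMod I) ≅ Coh.structureModule X)

/-- `(N ⊗ L) ⊗ I ≅ N`. -/
def cL : tensorBy L ⋙ tensorBy (_root_.ClSub.idealMod I) ≅ 𝟭 X.Modules :=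
  ProjCoh.Coherent.cancelNat e

/-- `(N ⊗ I) ⊗ L ≅ N`. -/
def cI : tensorBy (_root_.ClSub.idealMod I) ⋙ tensorBy L ≅ 𝟭 X.Modules :=
  ProjCoh.Coherent.cancelNat (comm _ _ ≪≫ e)

/-- The transpose `N → N ⊗ L` of `N ⊗ I → N`. -/
def s : 𝟭 X.Modules ⟶ tensorBy L :=
  (cI I e).inv ≫ Functor.whiskerRight (a I) (tensorBy L) ≫ (Functor.leftUnitor _).hom

theorem s_app (N : X.Modules) :
    (s I e).app N = (cI I e).inv.app N ≫ (tensorBy L).map ((a I).app N) := by
  simp [s]

include e in
theorem isEquivalence : (tensorBy L).IsEquivalence :=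
  (CategoryTheory.Equivalence.mk (tensorBy L) (tensorBy (_root_.ClSub.idealMod I))
    (cL I e).symm (cI I e)).isEquivalence_functor

theorem exact_a (M : X.Modules) :
    ∃ h : (a I).app M ≫ ψ I M = 0, (ShortComplex.mk _ _ h).Exact ∧ Epi (ψ I M) := by
  let T := (DCoh.tensorBi (X := X)).obj M
  let S := ClSub.Quot.idealSeq I
  haveI : PreservesFiniteColimits T := FlatTensor.preservesFiniteColimits_tensorLeft M
  haveI : T.Additive := Functor.additive_of_preserves_binary_products _
  have hT : (S.map T).Exact ∧ Epi (S.map T).g := by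
    have h03 : (∀ R : ShortComplex X.Modules, R.ShortExact → (R.map T).Exact ∧ Epi (T.map R.g)) ↔
        PreservesFiniteColimits T := (Functor.preservesFiniteColimits_tfae T).out 0 3
    exact h03.2 (FlatTensor.preservesFiniteColimits_tensorLeft M) S
      (ClSub.Quot.idealSeq_shortExact I)
  have h : (a I).app M ≫ ψ I M = 0 := by
    change (tmap (𝟙 M) _ ≫ (rightUnit M).hom) ≫ (rightUnit M).inv ≫ tmap (𝟙 M) _ = 0
    rw [Category.assoc, Iso.hom_inv_id_assoc]
    exact (S.map T).zero
  refine ⟨h, (ShortComplex.exact_iff_of_iso (ShortComplex.isoMk (S₁ := ShortComplex.mk _ _ h)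
    (S₂ := S.map T) (Iso.refl _) (rightUnit M).symm (Iso.refl _) ?_ ?_)).2 hT.1, ?_⟩
  · change 𝟙 _ ≫ tmap (𝟙 M) _ = (tmap (𝟙 M) _ ≫ (rightUnit M).hom) ≫ (rightUnit M).inv
    simp
    rfl
  · change (rightUnit M).inv ≫ tmap (𝟙 M) _ = ψ I M ≫ 𝟙 _
    simp [ψ]
    rfl
  · haveI : Epi (tmap (𝟙 M) (_root_.ClSub.toSubscheme I)) := hT.2
    exact epi_comp _ _

theorem a_push (Y : I.subscheme.Modules) :
    (a I).app ((Scheme.Modules.pushforward I.subschemeι).obj Y) = 0 := by
  obtain ⟨h, -, -⟩ := exact_a I ((Scheme.Modules.pushforward I.subschemeι).obj Y)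
  let adj := Scheme.Modules.pullbackPushforwardAdjunction I.subschemeι
  haveI := Cyc.Dev.SchemeCase.isIso_counit I.subschemeι Y
  haveI : IsIso (adj.unit.app ((Scheme.Modules.pushforward I.subschemeι).obj Y)) :=
    IsIso.of_isIso_fac_right (adj.right_triangle_components Y)
  haveI : IsIso (ψ I ((Scheme.Modules.pushforward I.subschemeι).obj Y)) := by
    haveI : IsIso (ψ I ((Scheme.Modules.pushforward I.subschemeι).obj Y) ≫ (p I _).hom) := by
      rw [ψ_p]
      assumption
    exact IsIso.of_isIso_comp_right _ (p I _).hom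
  exact (cancel_mono _).1 (h.trans zero_comp.symm)

variable [Dual3.HasHomO I.subschemeι]

/-- `i_* Hom(O_D, N) → N`. -/
def ε (N : X.Modules) :
    (Scheme.Modules.pushforward I.subschemeι).obj ((Dual3.homO I.subschemeι).obj N) ⟶ N :=
  (Dual3.homOAdj I.subschemeι).counit.app N

theorem ε_s (N : X.Modules) : ε I N ≫ (s I e).app N = 0 := by
  haveI := isEquivalence I e
  refine ((s I e).naturality (ε I N)).trans ?_
  rw [s_app, a_push]
  haveI : (tensorBy L).Additive := Functor.additive_of_preserves_binary_products _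
  exact (congrArg (· ≫ (tensorBy L).map (ε I N))
    ((congrArg (_ ≫ ·) ((tensorBy L).map_zero _ _)).trans comp_zero)).trans zero_comp

theorem mono_ε (N : X.Modules) : Mono (ε I N) := by
  let i := I.subschemeι
  refine Preadditive.mono_of_cancel_zero _ fun {M} u hu => ?_
  let adj := Scheme.Modules.pullbackPushforwardAdjunction i
  obtain ⟨u', rfl⟩ := (adj.homEquiv M ((Dual3.homO i).obj N)).surjective u
  rw [adj.homEquiv_unit, Category.assoc] at hu
  haveI : Epi (adj.unit.app M) := PushClosed.Unit.epi_unit i M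
  have h1 : (Scheme.Modules.pushforward i).map u' ≫ ε I N = 0 :=
    (cancel_epi (adj.unit.app M)).1 (hu.trans comp_zero.symm)
  have h2 : u' = 0 := ((Dual3.homOAdj i).homEquiv _ N).symm.injective <| by
    rw [Adjunction.homEquiv_counit, Adjunction.homEquiv_counit]
    exact h1.trans (by simp)
  rw [adj.homEquiv_unit, h2, Functor.map_zero, comp_zero]

/-- `0 → i_* Hom(O_D, N) → N → N ⊗ L`. -/
def seq (N : X.Modules) : ShortComplex X.Modules := ShortComplex.mk _ _ (ε_s I e N)

theorem a_comp_eq_zero {M N : X.Modules} (f : M ⟶ N) (hf : f ≫ (s I e).app N = 0) :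
    (a I).app M ≫ f = 0 := by
  haveI := isEquivalence I e
  haveI : (tensorBy L).Additive := Functor.additive_of_preserves_binary_products _
  have h : (s I e).app M ≫ (tensorBy L).map f = 0 := ((s I e).naturality f).symm.trans hf
  rw [s_app, Category.assoc, ← Functor.map_comp] at h
  refine ((tensorBy L).map_eq_zero_iff).1 ?_
  exact (cancel_epi ((cI I e).inv.app M)).1 (h.trans comp_zero.symm)

theorem exact_seq (N : X.Modules) : (seq I e N).Exact := by
  haveI : Mono (seq I e N).f := mono_ε I N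
  refine ShortComplex.exact_of_f_is_kernel _ (KernelFork.IsLimit.ofι' _ _ fun {M} f hf => ?_)
  have h0 : (a I).app M ≫ f = 0 := a_comp_eq_zero I e f hf
  have hz := (exact_a I M).choose
  have hex := (exact_a I M).choose_spec.1
  haveI := (exact_a I M).choose_spec.2
  let g := (p I M).inv ≫ hex.desc f h0
  let g' := ((Dual3.homOAdj I.subschemeι).homEquiv _ N) g
  refine ⟨(Scheme.Modules.pullbackPushforwardAdjunction I.subschemeι).unit.app M ≫
    (Scheme.Modules.pushforward I.subschemeι).map g', ?_⟩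
  have hg : (Scheme.Modules.pushforward I.subschemeι).map g' ≫ ε I N = g :=
    ((Dual3.homOAdj I.subschemeι).homEquiv_counit _ _ _).symm.trans (Equiv.symm_apply_apply _ _)
  change (_ ≫ _) ≫ ε I N = f
  rw [Category.assoc, hg, ← ψ_p]
  simp only [g, Category.assoc, Iso.hom_inv_id_assoc]
  exact (congrArg (ψ I M ≫ ·) (Iso.hom_inv_id_assoc (p I M) _)).trans (hex.g_desc f h0)

theorem epi_s (N : X.Modules) [Injective N] : Epi ((s I e).app N) := by
  let Y := (single X.Modules (ComplexShape.up ℤ) 0).obj ((tensorBy L).obj N)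
  let M := ((KFlat.res X).obj Y).X 0
  haveI := KFlat.epi_aug_f Y 0
  let π : M ⟶ (tensorBy L).obj N :=
    ((KFlat.aug X).app Y).f 0 ≫ (singleObjXSelf (ComplexShape.up ℤ) 0 _).hom
  haveI : Epi π := epi_comp _ _
  haveI : PreservesFiniteLimits ((DCoh.tensorBi (X := X)).obj M) :=
    FlatTensor.preservesFiniteLimits_tensorLeft_of_isFlat (KFlat.isFlat_res_X Y 0)
  haveI : PreservesFiniteColimits (tensorBy (_root_.ClSub.idealMod I)) :=
    PreservesColimitsOfSize.preservesFiniteColimits _
  haveI : Mono ((a I).app M) := by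
    have hm : Mono (((DCoh.tensorBi (X := X)).obj M).map (_root_.ClSub.idealModι I)) :=
      Functor.map_mono _ _
    exact @mono_comp _ _ _ _ _ _ hm _ inferInstance
  let p' := (tensorBy (_root_.ClSub.idealMod I)).map π ≫ (cL I e).hom.app N
  haveI : Epi p' := by
    haveI : Epi ((tensorBy (_root_.ClSub.idealMod I)).map π) := Functor.map_epi _ _
    exact epi_comp _ _
  haveI : Epi ((a I).app N) := by
    have h : (tensorBy (_root_.ClSub.idealMod I)).map (Injective.factorThru p' ((a I).app M)) ≫
        (a I).app N = p' :=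
      ((a I).naturality _).trans (Injective.comp_factorThru p' ((a I).app M))
    exact epi_of_epi_fac h
  haveI := isEquivalence I e
  rw [s_app]
  exact epi_comp _ _

end Groth.Agent.Lib.RHomO.Divisor
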