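import Groth.Agent.Lib.RHomO.Divisor
import Groth.Agent.Lib.CurveBundle.Twist

/-!
# `R Hom(O_D, O_X) = N[-1]` on an injective resolution
-/

set_option autoImplicit false
set_option linter.style.haveILetI false
set_option linter.unusedSectionVars false

universe u

open CategoryTheory Limits AlgebraicGeometry HomologicalComplex

noncomputable section

namespace Groth.Agent.Lib.RHomO.DivisorCx

open Groth.Agent.Lib Groth.Agent.Lib.DerivedOX Groth.Agent.Lib.RHomO.Divisor
open Groth.Agent.Lib.TensorMod.Basic

variable {X : Scheme.{u}} (I : X.IdealSheafData) {L : X.Modules}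
  (e : CohB1.tensorMod L (_root_.ClSub.idealMod I) ≅ Coh.structureModule X)
  [(tensorBy L).Additive] [PreservesFiniteLimits (tensorBy L)]
  [PreservesFiniteColimits (tensorBy L)]

/-- `J → J ⊗ L`. -/
def sC (J : CochainComplex X.Modules ℤ) :
    J ⟶ ((tensorBy L).mapHomologicalComplex (ComplexShape.up ℤ)).obj J where
  f n := (s I e).app (J.X n)
  comm' m n _ := ((s I e).naturality (J.d m n)).symm

theorem sC_natural {J K : CochainComplex X.Modules ℤ} (r : J ⟶ K) :
    r ≫ sC I e K = sC I e J ≫ ((tensorBy L).mapHomologicalComplex (ComplexShape.up ℤ)).map r :=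
  HomologicalComplex.hom_ext _ _ fun n => (s I e).naturality (r.f n)

theorem sC_single (A : X.Modules) :
    sC I e ((single X.Modules (ComplexShape.up ℤ) 0).obj A) ≫
        (singleMapHomologicalComplex (tensorBy L) (ComplexShape.up ℤ) 0).hom.app A =
      (single X.Modules (ComplexShape.up ℤ) 0).map ((s I e).app A) := by
  apply to_single_hom_ext
  rw [HomologicalComplex.comp_f, singleMapHomologicalComplex_hom_app_self, single_map_f_self]
  refine (Category.assoc _ _ _).symm.trans ?_
  refine Eq.trans ?_ (Category.assoc _ _ _)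
  exact congrArg (· ≫ _) ((s I e).naturality _).symm

/-- The cokernel of `O → L` is `i_* i^* L`. -/
theorem nonempty_coker_s : Mono ((s I e).app (Coh.structureModule X)) ∧
    Nonempty (cokernel ((s I e).app (Coh.structureModule X)) ≅
      (Scheme.Modules.pushforward I.subschemeι).obj
        ((Scheme.Modules.pullback I.subschemeι).obj L)) := by
  let O := Coh.structureModule X
  obtain ⟨hz, hex, hψ⟩ := exact_a I O
  haveI := hψ
  haveI hm : Mono ((a I).app O) := by
    have h : (tmap (𝟙 O) (_root_.ClSub.idealModι I)) =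
        (leftUnit _).hom ≫ _root_.ClSub.idealModι I ≫ (leftUnit O).inv := by
      rw [← Category.assoc, ← leftUnit_natural, Category.assoc, Iso.hom_inv_id, Category.comp_id]
    have hm' : Mono (tmap (𝟙 O) (_root_.ClSub.idealModι I)) := by
      rw [h]
      haveI := ClSub.Quot.mono_idealModι I
      infer_instance
    exact @mono_comp _ _ _ _ _ _ hm' _ inferInstance
  rw [s_app]
  refine ⟨mono_comp _ _, ⟨?_⟩⟩
  exact cokernelEpiComp ((cI I e).inv.app O) ((tensorBy L).map ((a I).app O)) ≪≫
    (PreservesCokernel.iso (tensorBy L) ((a I).app O)).symm ≪≫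
    (tensorBy L).mapIso ((cokernelIsCokernel _).coconePointUniqueUpToIso hex.gIsCokernel ≪≫
      leftUnit _) ≪≫
    comm _ _ ≪≫ p I L

variable [Dual3.HasHomO I.subschemeι]
  [PreservesFiniteLimits (Scheme.Modules.pushforward I.subschemeι)]
  [PreservesFiniteColimits (Scheme.Modules.pushforward I.subschemeι)]

/-- `i_* Hom(O_D, J) → J`. -/
def εC (J : CochainComplex X.Modules ℤ) :
    ((Scheme.Modules.pushforward I.subschemeι).mapHomologicalComplex (ComplexShape.up ℤ)).obj
      (((Dual3.homO I.subschemeι).mapHomologicalComplex (ComplexShape.up ℤ)).obj J) ⟶ J where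
  f n := ε I (J.X n)
  comm' m n _ := ((Dual3.homOAdj I.subschemeι).counit.naturality (J.d m n)).symm

/-- `0 → i_* Hom(O_D, J) → J → J ⊗ L → 0`. -/
def seqC (J : CochainComplex X.Modules ℤ) : ShortComplex (CochainComplex X.Modules ℤ) :=
  ShortComplex.mk (εC I J) (sC I e J) (HomologicalComplex.hom_ext _ _ fun n => ε_s I e (J.X n))

theorem shortExact_seqC {J : CochainComplex X.Modules ℤ} (hJ : ∀ n, Injective (J.X n)) :
    (seqC I e J).ShortExact :=
  HomologicalComplex.shortExact_of_degreewise_shortExact _ fun n =>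
    { exact := exact_seq I e (J.X n)
      mono_f := mono_ε I (J.X n)
      epi_g := haveI := hJ n; epi_s I e (J.X n) }

theorem isZero_of_push {Y : I.subscheme.Modules}
    (h : IsZero ((Scheme.Modules.pushforward I.subschemeι).obj Y)) : IsZero Y := by
  haveI := Cyc.Dev.SchemeCase.isIso_counit I.subschemeι Y
  haveI : (Scheme.Modules.pullback I.subschemeι).Additive :=
    (Scheme.Modules.pullbackPushforwardAdjunction I.subschemeι).left_adjoint_additive
  exact ((Scheme.Modules.pullback I.subschemeι).map_isZero h).of_iso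
    (asIso ((Scheme.Modules.pullbackPushforwardAdjunction I.subschemeι).counit.app Y)).symm

include e in
/-- The cohomology of `Hom(O_D, J)` for an injective resolution `J` of `O`. -/
theorem main {J : CochainComplex X.Modules ℤ} (hJ : ∀ n, Injective (J.X n))
    (r : (single X.Modules (ComplexShape.up ℤ) 0).obj (Coh.structureModule X) ⟶ J) [QuasiIso r] :
    let H := ((Dual3.homO I.subschemeι).mapHomologicalComplex (ComplexShape.up ℤ)).obj J
    (∀ j : ℤ, j ≠ 1 → IsZero (H.homology j)) ∧
      Nonempty (H.homology 1 ≅ (Scheme.Modules.pullback I.subschemeι).obj L) := by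
  intro H
  let O := Coh.structureModule X
  let S := (single X.Modules (ComplexShape.up ℤ) 0).obj O
  let F := (tensorBy L).mapHomologicalComplex (ComplexShape.up ℤ)
  let i := I.subschemeι
  have hs := shortExact_seqC I e hJ
  have hJ0 : ∀ n : ℤ, n ≠ 0 → IsZero (J.homology n) := fun n hn =>
    ((exactAt_single_obj _ _ _ _ hn).isZero_homology).of_iso (isoOfQuasiIsoAt r n).symm
  have hJL : ∀ n : ℤ, n ≠ 0 → IsZero ((F.obj J).homology n) := fun n hn =>
    ((tensorBy L).map_isZero (hJ0 n hn)).of_iso ((J.sc n).mapHomologyIso (tensorBy L))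
  let α : O ≅ J.homology 0 :=
    (singleObjHomologySelfIso (ComplexShape.up ℤ) 0 O).symm ≪≫ isoOfQuasiIsoAt r 0
  haveI : QuasiIso (F.map r) := inferInstance
  let β : (tensorBy L).obj O ≅ (F.obj J).homology 0 :=
    (singleObjHomologySelfIso (ComplexShape.up ℤ) 0 _).symm ≪≫
      (HomologicalComplex.homologyFunctor X.Modules (ComplexShape.up ℤ) 0).mapIso
        ((singleMapHomologicalComplex (tensorBy L) (ComplexShape.up ℤ) 0).app O).symm ≪≫
      isoOfQuasiIsoAt (F.map r) 0
  have hsq : α.hom ≫ homologyMap (sC I e J) 0 = (s I e).app O ≫ β.hom := by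
    have h1 : (single X.Modules (ComplexShape.up ℤ) 0).map ((s I e).app O) ≫
        (singleMapHomologicalComplex (tensorBy L) (ComplexShape.up ℤ) 0).inv.app O ≫ F.map r =
        r ≫ sC I e J := by
      rw [← sC_single, Category.assoc, Iso.hom_inv_id_app_assoc, sC_natural]
    have h2 := congrArg (fun f => homologyMap f 0) h1
    simp only [homologyMap_comp] at h2
    change ((singleObjHomologySelfIso _ 0 O).inv ≫ homologyMap r 0) ≫ _ = _
    rw [Category.assoc, ← h2]
    refine (Category.assoc _ _ _).symm.trans ?_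
    rw [singleObjHomologySelfIso_inv_naturality]
    exact Category.assoc _ _ _
  obtain ⟨hmono, ⟨eC⟩⟩ := nonempty_coker_s I e
  haveI := hmono
  haveI : Mono (homologyMap (sC I e J) 0) := by
    have : homologyMap (sC I e J) 0 = α.inv ≫ (s I e).app O ≫ β.hom := by
      rw [← hsq, Iso.inv_hom_id_assoc]
    rw [this]
    infer_instance
  let ep : ∀ n, (seqC I e J).X₁.homology n ≅ (Scheme.Modules.pushforward i).obj (H.homology n) :=
    fun n => (H.sc n).mapHomologyIso (Scheme.Modules.pushforward i)
  refine ⟨fun j hj => isZero_of_push I (IsZero.of_iso ?_ (ep j).symm), ?_⟩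
  · have h := hs.homology_exact₁ (j - 1) j (by simp)
    refine h.isZero_of_both_zeros ((hJL (j - 1) (by omega)).eq_of_src _ _) ?_
    by_cases h0 : j = 0
    · subst h0
      change homologyMap (εC I J) 0 = 0
      apply (cancel_mono (homologyMap (sC I e J) 0)).1
      rw [← homologyMap_comp, zero_comp]
      exact (congrArg (fun f => homologyMap f 0) (seqC I e J).zero).trans (homologyMap_zero _ _ _)
    · exact (hJ0 j h0).eq_of_tgt _ _
  · have h3 := hs.homology_exact₃ 0 1 (by simp)
    haveI : Epi (hs.δ 0 1 (by simp)) :=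
      (hs.homology_exact₁ 0 1 (by simp)).epi_f ((hJ0 1 one_ne_zero).eq_of_tgt _ _)
    let e1 : (seqC I e J).X₁.homology 1 ≅ cokernel (homologyMap (sC I e J) 0) :=
      (h3.gIsCokernel).coconePointUniqueUpToIso (colimit.isColimit _)
    let e2 : cokernel ((s I e).app O) ≅ cokernel (homologyMap (sC I e J) 0) :=
      cokernel.mapIso _ _ α β hsq.symm
    let c := fun Y => @asIso _ _ _ _ ((Scheme.Modules.pullbackPushforwardAdjunction i).counit.app Y)
      (Cyc.Dev.SchemeCase.isIso_counit i Y)
    exact ⟨(c (H.homology 1)).symm ≪≫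
      (Scheme.Modules.pullback i).mapIso ((ep 1).symm ≪≫ e1 ≪≫ e2.symm ≪≫ eC) ≪≫
      c ((Scheme.Modules.pullback i).obj L)⟩

end Groth.Agent.Lib.RHomO.DivisorCx
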