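import Groth.Agent.Lib.DerivedOX.ProjClosed
import Groth.Agent.Lib.DerivedOX.DualFree
import Groth.Agent.Lib.DerivedOX.TensorSymm

/-!
# `- ⊗ i_*O ≅ i_* i^*` for a closed immersion, and tensoring a complex with an object in degree zero
-/

set_option autoImplicit false
set_option linter.style.haveILetI false
set_option linter.unusedSectionVars false

universe u

open CategoryTheory Limits AlgebraicGeometry HomologicalComplex

namespace Groth.Agent.Lib.RHomO.Module

open Groth.Agent.Lib Groth.Agent.Lib.DerivedOX
open Groth.Agent.Lib.TensorMod.Basic (tmap)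
open Groth.Agent.Lib.TensorMod.Pullback (pb pf unitSec unitSec_natural)
open Groth.Agent.Lib.Modules.TensorSec (tens app_tens tmap_tens)

variable {Z X : Scheme.{u}} (i : Z ⟶ X)

/-- `theta` is natural in the first variable. -/
lemma theta_natural_left {E E' : X.Modules} (a : E ⟶ E') (F : Z.Modules) :
    tmap a (𝟙 ((pf i).obj F)) ≫ Modules.ProjFormula.theta i E' F =
      Modules.ProjFormula.theta i E F ≫ (pf i).map (tmap ((pb i).map a) (𝟙 F)) := by
  refine TensorMod.Free.hom_ext_pairM fun V x m => ?_
  rw [← app_tens, ← app_tens]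
  change (Modules.ProjFormula.theta i E' F).app V ((tmap a (𝟙 _)).app V (tens x m)) =
    (tmap ((pb i).map a) (𝟙 F)).app (i ⁻¹ᵁ V) ((Modules.ProjFormula.theta i E F).app V (tens x m))
  rw [tmap_tens, Modules.ProjFormula.theta_tens, Modules.ProjFormula.theta_tens, unitSec_natural]
  exact (tmap_tens ((pb i).map a) (𝟙 F) (U := i ⁻¹ᵁ V) (unitSec i E x)
    (show Γ(F, i ⁻¹ᵁ V) from m)).symm

/-- `N ⊗ i_*O ≅ i_* i^* N`. -/
noncomputable def projIso [IsClosedImmersion i] :
    (DCoh.tensorBi (X := X)).flip.obj ((Scheme.Modules.pushforward i).obj (Coh.structureModule Z)) ≅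
      Scheme.Modules.pullback i ⋙ Scheme.Modules.pushforward i :=
  NatIso.ofComponents
    (fun N => @asIso _ _ _ _ (Modules.ProjFormula.theta i N (Coh.structureModule Z))
        (ProjClosed.isIso_theta i N _) ≪≫
      (Scheme.Modules.pushforward i).mapIso (TensorMod.Basic.rightUnit _))
    (fun {N N'} a => by
      simp only [Iso.trans_hom, asIso_hom, Functor.mapIso_hom, Functor.flip_obj_map,
        Functor.comp_map]
      rw [PullTensor.tensorBi_map_app]
      refine (Category.assoc _ _ _).symm.trans ((congrArg (· ≫ _) (theta_natural_left i a _)).trans ?_)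
      refine (Category.assoc _ _ _).trans (Eq.trans ?_ (Category.assoc _ _ _).symm)
      refine congrArg (_ ≫ ·) ?_
      refine ((Scheme.Modules.pushforward i).map_comp _ _).symm.trans (Eq.trans ?_
        ((Scheme.Modules.pushforward i).map_comp _ _))
      exact congrArg (Scheme.Modules.pushforward i).map (TensorMod.Basic.rightUnit_natural _))

variable (F : X.Modules)

/-- A component of `single₂Iso`. -/
noncomputable def singleX (T : CochainComplex X.Modules ℤ) (m : ℤ) :
    ((DCoh.tensorBi (X := X)).obj (T.X m)).obj F ≅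
      ((DCoh.tensorCx.obj T).obj ((single X.Modules (ComplexShape.up ℤ) 0).obj F)).X m :=
  @asIso _ _ _ _ (Bifunctor.singleHom₂ (DCoh.tensorBi (X := X)) T 0 F m m (add_zero m))
    (Bifunctor.isIso_singleHom₂ (DCoh.tensorBi (X := X)) T 0 F m m (add_zero m))

/-- `T ⊗ F[0]` is `T ⊗ F` termwise. -/
noncomputable def single₂Iso :
    ((DCoh.tensorBi (X := X)).flip.obj F).mapHomologicalComplex (ComplexShape.up ℤ) ≅
      DualHom.Tc ((single X.Modules (ComplexShape.up ℤ) 0).obj F) :=
  NatIso.ofComponents
    (fun T => HomologicalComplex.Hom.isoOfComponents (singleX F T) (fun m m' h =>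
      Bifunctor.singleHom₂_d (DCoh.tensorBi (X := X)) T 0 F m m' m m' (add_zero m) (add_zero m') h))
    (fun {T T'} g => HomologicalComplex.hom_ext _ _ fun m => by
      let B := DCoh.tensorBi (X := X)
      change (B.map (g.f m)).app F ≫ Bifunctor.singleHom₂ B T' 0 F m m (add_zero m) =
        Bifunctor.singleHom₂ B T 0 F m m (add_zero m) ≫
          ((DCoh.tensorCx.map g).app ((single X.Modules (ComplexShape.up ℤ) 0).obj F)).f m
      dsimp only [Bifunctor.singleHom₂]
      refine Eq.trans ?_ (Category.assoc _ _ _).symm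
      refine Eq.trans ?_ (congrArg (_ ≫ ·) (ι_mapBifunctorMap g
        (𝟙 ((single X.Modules (ComplexShape.up ℤ) 0).obj F)) B (.up ℤ) m 0 m (add_zero m)).symm)
      simp only [HomologicalComplex.id_f, CategoryTheory.Functor.map_id, Category.id_comp]
      exact ((B.map (g.f m)).naturality_assoc _ _).symm)

end Groth.Agent.Lib.RHomO.Module
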